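import Mathlib.RingTheory.Polynomial.Resultant.Basic
import Mathlib.LinearAlgebra.FiniteDimensional.Basic
import Mathlib.FieldTheory.Finite.Basic
import Mathlib.SetTheory.Cardinal.Finite

/-!
Counting pairs of binary forms of degrees `2` and `n` with non-vanishing resultant over a finite field.
-/

universe u

open Polynomial
open scoped Classical

namespace Groth.Agent.ResCount28

variable {F : Type u} [Field F]

/-- The polynomial with a given coefficient vector. -/
noncomputable def poly (N : ℕ) : (Fin N → F) →ₗ[F] F[X] where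
  toFun v := ∑ i, C (v i) * X ^ (i : ℕ)
  map_add' v w := by simp [add_mul, Finset.sum_add_distrib]
  map_smul' r v := by simp [Finset.smul_sum, smul_eq_C_mul, mul_assoc]

theorem poly_apply (N : ℕ) (v : Fin N → F) : poly N v = ∑ i, C (v i) * X ^ (i : ℕ) := rfl

theorem coeff_poly {N : ℕ} (v : Fin N → F) (i : Fin N) : (poly N v).coeff i = v i := by
  simp [poly_apply, finset_sum_coeff, coeff_C_mul, coeff_X_pow, Fin.val_inj]

theorem natDegree_poly {N : ℕ} (v : Fin (N + 1) → F) : (poly (N + 1) v).natDegree ≤ N := by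
  change (∑ i, C (v i) * X ^ (i : ℕ)).natDegree ≤ N
  refine natDegree_sum_le_of_forall_le _ _ fun i _ => (natDegree_C_mul_le (R := F) (v i) (X ^ (i : ℕ))).trans ?_
  rw [natDegree_X_pow]; omega

theorem poly_eval {N : ℕ} (v : Fin N → F) (x : F) : (poly N v).eval x = ∑ i, v i * x ^ (i : ℕ) := by
  simp [poly_apply, eval_finset_sum]

/-- The resultant with a monic quadratic only depends on the remainder. -/
theorem resultant_monic {f g : F[X]} (hf : f.Monic) (hf2 : f.natDegree = 2) {n : ℕ} (hn : 2 ≤ n)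
    (hg : g.natDegree ≤ n) :
    f.resultant g 2 n ≠ 0 ↔
      if (g %ₘ f).coeff 1 = 0 then (g %ₘ f).coeff 0 ≠ 0
      else f.eval (-((g %ₘ f).coeff 0 / (g %ₘ f).coeff 1)) ≠ 0 := by
  set r := g %ₘ f
  have hr : r.natDegree ≤ 1 := by
    have h1 := natDegree_modByMonic_lt g hf (fun h => by simp [h] at hf2)
    show r.natDegree ≤ 1
    change (g %ₘ f).natDegree ≤ 1
    omega
  have hc : f.coeff 2 = 1 := by rw [← hf2]; exact hf.leadingCoeff
  have h0 : f.resultant g 2 n = f.resultant r 2 1 := by
    have h1 : g = r + f * (g /ₘ f) := (modByMonic_add_div g f).symm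
    rw [h1, resultant_add_mul_right _ _ _ _ _ (by rw [natDegree_divByMonic g hf, hf2]; omega) hf2.le]
    obtain ⟨k, rfl⟩ : ∃ k, n = 1 + k := ⟨n - 1, by omega⟩
    rw [resultant_add_right_deg f r 2 1 k hr, hc, one_pow, one_mul]
  have h2 := eq_X_add_C_of_natDegree_le_one hr
  generalize r.coeff 0 = a, r.coeff 1 = b at h2 ⊢
  rw [h0, h2]
  by_cases hb : b = 0
  · subst hb
    rw [if_pos rfl, map_zero, zero_mul, zero_add]
    simp [hc]
  · rw [if_neg hb, show C b * X + C a = C b * (X + C (a / b)) by rw [mul_add, ← C_mul, mul_div_cancel₀ _ hb],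
      resultant_C_mul_right, resultant_X_add_C_right f 2 _ hf2.le]
    simp [hb]

variable [Fintype F]

theorem card_pred {V : Type u} [AddCommGroup V] [Module F V] [Module.Finite F V]
    (L : V →ₗ[F] F × F) (hL : Function.Surjective L) (P : F × F → Prop) :
    Nat.card {v : V // P (L v)} = Nat.card {y // P y} * Fintype.card F ^ (Module.finrank F V - 2) := by
  obtain ⟨s, hs⟩ := LinearMap.exists_rightInverse_of_surjective L (LinearMap.range_eq_top.2 hL)
  have hs' : ∀ y, L (s y) = y := fun y => LinearMap.congr_fun hs y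
  let e : {v : V // P (L v)} ≃ {y // P y} × LinearMap.ker L :=
    { toFun := fun v => (⟨L v.1, v.2⟩, ⟨v.1 - s (L v.1), by simp [hs']⟩)
      invFun := fun p => ⟨s p.1.1 + p.2.1, by
        rw [map_add, hs', LinearMap.mem_ker.1 p.2.2, add_zero]; exact p.1.2⟩
      left_inv := fun v => Subtype.ext (add_sub_cancel _ _)
      right_inv := fun p => by
        have h : L (s p.1.1 + p.2.1) = p.1.1 := by rw [map_add, hs', LinearMap.mem_ker.1 p.2.2, add_zero]
        refine Prod.ext (Subtype.ext h) (Subtype.ext ?_)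
        simp only [h, add_sub_cancel_left] }
  rw [Nat.card_congr e, Nat.card_prod, Module.natCard_eq_pow_finrank (K := F) (V := LinearMap.ker L), Nat.card_eq_fintype_card (α := F)]
  congr 2
  have h := L.finrank_range_add_finrank_ker
  rw [LinearMap.range_eq_top.2 hL, finrank_top, Module.finrank_prod, Module.finrank_self] at h
  omega

theorem card_coeff_vector {n : ℕ} (L : (Fin (n + 1) → F) →ₗ[F] F × F) (hL : Function.Surjective L)
    (P : F × F → Prop) :
    Nat.card {v // P (L v)} = Nat.card {y // P y} * Fintype.card F ^ (n - 1) := by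
  rw [card_pred L hL P, Module.finrank_fintype_fun_eq_card, Fintype.card_fin]
  congr 2

/-- The remainder of a monic quadratic. -/
noncomputable def remMap (f : F[X]) (n : ℕ) : (Fin (n + 1) → F) →ₗ[F] F × F :=
  ((lcoeff F 0).prod (lcoeff F 1)).comp ((modByMonicHom f).comp (poly (n + 1)))

theorem remMap_surjective {f : F[X]} (hf : f.Monic) (hf2 : f.natDegree = 2) {n : ℕ} (hn : 1 ≤ n) :
    Function.Surjective (remMap f n) := by
  intro y
  let v : Fin (n + 1) → F := fun i => if i.1 = 0 then y.1 else if i.1 = 1 then y.2 else 0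
  have hv : poly (n + 1) v = C y.2 * X + C y.1 := by
    ext k
    rcases le_or_gt (n + 1) k with h | h
    · rw [coeff_eq_zero_of_natDegree_lt ((natDegree_poly v).trans_lt (by omega)), coeff_add, coeff_C_mul, coeff_X,
        coeff_C, if_neg (by omega), if_neg (by omega)]
      simp
    · rw [show k = ((⟨k, h⟩ : Fin (n + 1)) : ℕ) from rfl, coeff_poly, coeff_add, coeff_C_mul, coeff_X, coeff_C]
      simp only [v]
      rcases k with _ | _ | k <;> simp
  refine ⟨v, ?_⟩
  have h : (C y.2 * X + C y.1) %ₘ f = C y.2 * X + C y.1 := by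
    rw [modByMonic_eq_self_iff hf]
    refine lt_of_le_of_lt degree_linear_le ?_
    rw [degree_eq_natDegree hf.ne_zero, hf2]
    norm_num
  simp [remMap, hv, h]

/-- The good remainders of a monic quadratic with coefficients `c`. -/
def Good (c y : F × F) : Prop :=
  if y.2 = 0 then y.1 ≠ 0 else (-(y.1 / y.2)) ^ 2 + c.2 * (-(y.1 / y.2)) + c.1 ≠ 0

theorem card_sub_singleton (a : F) : Nat.card {x : F // x ≠ a} = Fintype.card F - 1 := by
  classical
  rw [Nat.card_eq_fintype_card, Fintype.card_subtype_compl, Fintype.card_subtype_eq]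

theorem sum_card_good : ∑ c : F × F, Nat.card {y // Good c y} = Fintype.card F ^ 3 * (Fintype.card F - 1) := by
  classical
  set q := Fintype.card F
  have h1 : ∑ c : F × F, Nat.card {y // Good c y} = ∑ y : F × F, Nat.card {c // Good c y} := by
    simp only [Nat.card_eq_fintype_card, Fintype.card_subtype, Finset.card_filter]
    exact Finset.sum_comm
  have h0 : ∀ a : F, Nat.card {c // Good c (a, 0)} = if a = 0 then 0 else q * q := by
    intro a
    split_ifs with ha
    · haveI : IsEmpty {c // Good c (a, (0 : F))} := ⟨fun c => by simpa [Good, ha] using c.2⟩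
      simp
    · rw [Nat.card_congr (Equiv.subtypeUnivEquiv (fun c => by simp [Good, ha])), Nat.card_prod,
        Nat.card_eq_fintype_card]
  have hb : ∀ a b : F, b ≠ 0 → Nat.card {c // Good c (a, b)} = q * (q - 1) := by
    intro a b hb
    set x := -(a / b)
    let e : {c // Good c (a, b)} ≃ F × {z : F // z ≠ 0} :=
      { toFun := fun c => (c.1.2, ⟨x ^ 2 + c.1.2 * x + c.1.1, by
          have := c.2
          simp only [Good, if_neg hb] at this
          exact this⟩)
        invFun := fun p => ⟨(p.2.1 - x ^ 2 - p.1 * x, p.1), by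
          have := p.2.2
          simp only [Good, if_neg hb]
          convert this using 1
          ring⟩
        left_inv := fun c => Subtype.ext (Prod.ext (by dsimp only; ring) rfl)
        right_inv := fun p => Prod.ext rfl (Subtype.ext (by dsimp only; ring)) }
    rw [Nat.card_congr e, Nat.card_prod, card_sub_singleton, Nat.card_eq_fintype_card]
  rw [h1, Fintype.sum_prod_type]
  have h2 : ∀ a : F, ∑ b : F, Nat.card {c // Good c (a, b)} =
      (if a = 0 then 0 else q * q) + (q - 1) * (q * (q - 1)) := by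
    intro a
    rw [← Finset.add_sum_erase _ _ (Finset.mem_univ (0 : F)), h0,
      Finset.sum_congr rfl (fun b hb' => hb a b (Finset.mem_erase.1 hb').1)]
    simp [q]
  simp only [h2]
  rw [Finset.sum_add_distrib, Finset.sum_ite, Finset.sum_const_zero, zero_add, Finset.sum_const,
    Finset.sum_const, smul_eq_mul, smul_eq_mul, Finset.card_univ, Finset.filter_ne',
    Finset.card_erase_of_mem (Finset.mem_univ _), Finset.card_univ]
  obtain ⟨r, hr⟩ : ∃ r, q = r + 1 := ⟨q - 1, (Nat.sub_add_cancel Fintype.card_pos).symm⟩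
  change (q - 1) * (q * q) + q * ((q - 1) * (q * (q - 1))) = _
  rw [hr, Nat.add_sub_cancel]
  ring

variable {n : ℕ}

theorem card_fibre_quadratic (hn : 2 ≤ n) (v : Fin 3 → F) (hv : v 2 ≠ 0) :
    Nat.card {w : Fin (n + 1) → F // (poly 3 v).resultant (poly (n + 1) w) 2 n ≠ 0} =
      Nat.card {y // Good (v 0 / v 2, v 1 / v 2) y} * Fintype.card F ^ (n - 1) := by
  let f : F[X] := X ^ 2 + C (v 1 / v 2) * X + C (v 0 / v 2)
  have hf : f.Monic := by simp only [f]; monicity!
  have hf2 : f.natDegree = 2 := by simp only [f]; compute_degree!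
  have hp : poly 3 v = C (v 2) * f := by
    simp only [f, poly_apply, Fin.sum_univ_three, Fin.val_zero, Fin.val_one, Fin.val_two, mul_add, ← mul_assoc,
      ← C_mul, mul_div_cancel₀ _ hv]
    ring
  have key : ∀ w, (poly 3 v).resultant (poly (n + 1) w) 2 n ≠ 0 ↔ Good (v 0 / v 2, v 1 / v 2) (remMap f n w) := by
    intro w
    rw [hp, resultant_C_mul_left, mul_ne_zero_iff, and_iff_right (pow_ne_zero _ hv),
      resultant_monic hf hf2 hn (natDegree_poly w)]
    simp [Good, remMap, f]
  rw [Nat.card_congr (Equiv.subtypeEquivRight key),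
    card_coeff_vector (remMap f n) (remMap_surjective hf hf2 (by omega))]

theorem card_fibre_linear (hn : 2 ≤ n) (v : Fin 3 → F) (h2 : v 2 = 0) (h1 : v 1 ≠ 0) :
    Nat.card {w : Fin (n + 1) → F // (poly 3 v).resultant (poly (n + 1) w) 2 n ≠ 0} =
      (Fintype.card F - 1) * (Fintype.card F - 1) * Fintype.card F ^ (n - 1) := by
  classical
  set x := -(v 0 / v 1)
  let L : (Fin (n + 1) → F) →ₗ[F] F × F :=
    (LinearMap.proj (Fin.last n)).prod ((leval x).comp (poly (n + 1)))
  have hL : Function.Surjective L := fun y =>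
    ⟨Pi.single (Fin.last n) y.1 + Pi.single 0 (y.2 - y.1 * x ^ n), by
      have h0 : (Fin.last n : Fin (n + 1)) ≠ 0 := fun h => by
        have := congrArg Fin.val h; simp at this; omega
      refine Prod.ext ?_ ?_
      · simp [L, h0]
      · simp [L, poly_eval, Pi.single_apply, Finset.sum_add_distrib, add_mul, ite_mul]⟩
  have hp : poly 3 v = C (v 1) * (X - C x) := by
    simp only [x, poly_apply, Fin.sum_univ_three, Fin.val_zero, Fin.val_one, Fin.val_two, h2, map_zero, map_neg,
      sub_neg_eq_add, mul_add, ← C_mul, mul_div_cancel₀ _ h1]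
    ring
  have key : ∀ w, (poly 3 v).resultant (poly (n + 1) w) 2 n ≠ 0 ↔ (L w).1 ≠ 0 ∧ (L w).2 ≠ 0 := by
    intro w
    rw [hp, resultant_succ_left_deg _ _ 1 n ((natDegree_C_mul_le _ _).trans (natDegree_X_sub_C_le _)),
      resultant_C_mul_left, resultant_X_sub_C_left _ _ _ (natDegree_poly w)]
    have : (poly (n + 1) w).coeff n = w (Fin.last n) := coeff_poly w (Fin.last n)
    simp [L, this, h1, and_assoc]
  rw [Nat.card_congr (Equiv.subtypeEquivRight key), card_coeff_vector L hL (fun y => y.1 ≠ 0 ∧ y.2 ≠ 0)]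
  rw [Nat.card_congr (Equiv.subtypeProdEquivProd (p := fun a : F => a ≠ 0) (q := fun b : F => b ≠ 0)),
    Nat.card_prod, card_sub_singleton]

theorem card_fibre_const (hn : 2 ≤ n) (v : Fin 3 → F) (h2 : v 2 = 0) (h1 : v 1 = 0) :
    Nat.card {w : Fin (n + 1) → F // (poly 3 v).resultant (poly (n + 1) w) 2 n ≠ 0} =
      if v 0 = 0 then 0 else (Fintype.card F - 1) * Fintype.card F * Fintype.card F ^ (n - 1) := by
  classical
  have hp : poly 3 v = C (v 0) := by simp [poly_apply, Fin.sum_univ_three, h1, h2]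
  have key : ∀ w, (poly 3 v).resultant (poly (n + 1) w) 2 n ≠ 0 ↔ v 0 ≠ 0 ∧ w (Fin.last n) ≠ 0 := by
    intro w
    rw [hp, resultant_C_left, show (poly (n + 1) w).coeff n = w (Fin.last n) from coeff_poly w (Fin.last n)]
    simp [show n ≠ 0 by omega, and_comm]
  rw [Nat.card_congr (Equiv.subtypeEquivRight key)]
  split_ifs with h0
  · simp [h0]
  · let L : (Fin (n + 1) → F) →ₗ[F] F × F := (LinearMap.proj (Fin.last n)).prod (LinearMap.proj 0)
    have hl : (Fin.last n : Fin (n + 1)) ≠ 0 := fun h => by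
      have := congrArg Fin.val h; simp at this; omega
    have hL : Function.Surjective L := fun y =>
      ⟨Pi.single (Fin.last n) y.1 + Pi.single 0 y.2, by refine Prod.ext ?_ ?_ <;> simp [L, hl, Ne.symm hl]⟩
    rw [Nat.card_congr (Equiv.subtypeEquivRight (q := fun w => (L w).1 ≠ 0) fun w => by simp [h0, L]),
      card_coeff_vector L hL (fun y => y.1 ≠ 0)]
    congr 1
    rw [Nat.card_congr (Equiv.prodSubtypeFstEquivSubtypeProd (p := fun a : F => a ≠ 0)), Nat.card_prod,
      card_sub_singleton, Nat.card_eq_fintype_card]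

theorem card_resultant_ne_zero (hn : 2 ≤ n) :
    Nat.card {p : (Fin 3 → F) × (Fin (n + 1) → F) // (poly 3 p.1).resultant (poly (n + 1) p.2) 2 n ≠ 0} =
      (Fintype.card F - 1) ^ 2 * Fintype.card F ^ n * (Fintype.card F ^ 2 + Fintype.card F) := by
  classical
  set q := Fintype.card F
  rw [Nat.card_congr (Equiv.subtypeProdEquivSigmaSubtype fun (v : Fin 3 → F) (w : Fin (n + 1) → F) =>
    (poly 3 v).resultant (poly (n + 1) w) 2 n ≠ 0), Nat.card_sigma]
  let φ : (Fin 3 → F) → ℕ := fun v =>
    Nat.card {w : Fin (n + 1) → F // (poly 3 v).resultant (poly (n + 1) w) 2 n ≠ 0}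
  change ∑ v, φ v = _
  let e : F × F × F ≃ (Fin 3 → F) :=
    { toFun := fun t => ![t.2.2, t.2.1, t.1]
      invFun := fun v => (v 2, v 1, v 0)
      left_inv := fun t => by simp
      right_inv := fun v => by funext i; fin_cases i <;> simp }
  rw [← e.sum_comp, Fintype.sum_prod_type, ← Finset.add_sum_erase _ _ (Finset.mem_univ (0 : F))]
  have hA : ∀ a ∈ Finset.univ.erase (0 : F), ∑ t : F × F, φ (e (a, t)) = q ^ 3 * (q - 1) * q ^ (n - 1) := by
    intro a ha
    have ha0 : a ≠ 0 := (Finset.mem_erase.1 ha).1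
    simp only [φ]
    rw [Finset.sum_congr rfl (fun t _ => card_fibre_quadratic hn (e (a, t)) (by simpa [e] using ha0)),
      ← Finset.sum_mul, ← sum_card_good (F := F)]
    congr 1
    let s : F × F ≃ F × F := (Equiv.prodComm F F).trans (Equiv.prodCongr (Equiv.divRight₀ a ha0) (Equiv.divRight₀ a ha0))
    rw [← s.sum_comp (fun c => Nat.card {y // Good c y})]
    refine Finset.sum_congr rfl fun t _ => ?_
    simp [e, s]
    rfl
  have hB : ∑ t : F × F, φ (e (0, t)) =
      (q - 1) * q * ((q - 1) * (q - 1) * q ^ (n - 1)) + (q - 1) * ((q - 1) * q * q ^ (n - 1)) := by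
    rw [Fintype.sum_prod_type, ← Finset.add_sum_erase _ _ (Finset.mem_univ (0 : F)), add_comm]
    congr 1
    · rw [Finset.sum_congr rfl (fun b hb => Finset.sum_congr rfl (fun c _ =>
        card_fibre_linear hn (e (0, b, c)) (by simp [e]) (by simpa [e] using (Finset.mem_erase.1 hb).1)))]
      simp [q, mul_assoc]
    · simp only [φ]
      rw [Finset.sum_congr rfl (fun c _ => card_fibre_const hn (e (0, 0, c)) (by simp [e]) (by simp [e]))]
      simp only [show ∀ c : F, e (0, 0, c) 0 = c from fun c => rfl]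
      rw [← Finset.add_sum_erase _ _ (Finset.mem_univ (0 : F)), if_pos rfl, zero_add,
        Finset.sum_congr rfl (fun c hc => if_neg (Finset.mem_erase.1 hc).1)]
      simp [q]
  rw [hB, Finset.sum_congr rfl hA, Finset.sum_const, smul_eq_mul, Finset.card_erase_of_mem (Finset.mem_univ _),
    Finset.card_univ]
  obtain ⟨k, rfl⟩ : ∃ k, n = k + 1 := ⟨n - 1, by omega⟩
  obtain ⟨r, hr⟩ : ∃ r, q = r + 1 := ⟨q - 1, (Nat.sub_add_cancel Fintype.card_pos).symm⟩
  change _ + (q - 1) * _ = _
  rw [hr, Nat.add_sub_cancel, Nat.add_sub_cancel]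
  ring

theorem card_eq_pow_sub (q n : ℕ) (hq : 2 ≤ q) :
    (q - 1) ^ 2 * q ^ n * (q ^ 2 + q) = q ^ (n + 4) - q ^ (n + 3) - q ^ (n + 2) + q ^ (n + 1) := by
  obtain ⟨r, rfl⟩ : ∃ r, q = r + 1 + 1 := ⟨q - 2, by omega⟩
  · set s := r + 1 + 1
    have h1 : s ^ (n + 3) + s ^ (n + 2) ≤ s ^ (n + 4) := by
      have : s + 1 ≤ s * s := by nlinarith [show 2 ≤ s by omega]
      calc s ^ (n + 3) + s ^ (n + 2) = s ^ (n + 2) * (s + 1) := by ring
        _ ≤ s ^ (n + 2) * (s * s) := Nat.mul_le_mul_left _ this
        _ = s ^ (n + 4) := by ring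
    zify [h1, show s ^ (n + 3) ≤ s ^ (n + 4) by omega, show s ^ (n + 2) ≤ s ^ (n + 4) - s ^ (n + 3) by omega,
      show 1 ≤ s by omega]
    ring

/-- For odd `n` all non-zero values are taken equally often. -/
theorem card_resultant_eq_one (hn : Odd n) :
    Nat.card {p : (Fin 3 → F) × (Fin (n + 1) → F) // (poly 3 p.1).resultant (poly (n + 1) p.2) 2 n ≠ 0} =
      (Fintype.card F - 1) *
        Nat.card {p : (Fin 3 → F) × (Fin (n + 1) → F) // (poly 3 p.1).resultant (poly (n + 1) p.2) 2 n = 1} := by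
  classical
  obtain ⟨k, hk⟩ := hn
  let R : (Fin 3 → F) × (Fin (n + 1) → F) → F := fun p => (poly 3 p.1).resultant (poly (n + 1) p.2) 2 n
  have hR : ∀ (a b : F) (p : (Fin 3 → F) × (Fin (n + 1) → F)), R (a • p.1, b • p.2) = a ^ n * b ^ 2 * R p := by
    intro a b p
    dsimp only [R]
    rw [(poly 3).map_smul, (poly (n + 1)).map_smul, smul_eq_C_mul, smul_eq_C_mul, resultant_C_mul_left,
      resultant_C_mul_right]
    ring
  have hsc : ∀ c : Fˣ, (c : F) ^ n * (((c⁻¹ : Fˣ) : F) ^ k) ^ 2 = c := by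
    intro c
    rw [← pow_mul, hk, pow_succ, mul_comm k 2, mul_right_comm, ← mul_pow, ← Units.val_mul, mul_inv_cancel,
      Units.val_one, one_pow, one_mul]
  let e : {p // R p ≠ 0} ≃ Fˣ × {p // R p = 1} :=
    { toFun := fun p =>
        let c := Units.mk0 (R p.1) p.2
        (c, ⟨(((c⁻¹ : Fˣ) : F) • p.1.1, ((c : Fˣ) : F) ^ k • p.1.2), by
          have h := hsc c⁻¹
          rw [inv_inv] at h
          rw [hR, h]
          exact inv_mul_cancel₀ p.2⟩)
      invFun := fun x => ⟨((x.1 : F) • x.2.1.1, ((x.1⁻¹ : Fˣ) : F) ^ k • x.2.1.2), by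
        rw [hR, hsc, x.2.2, mul_one]; exact x.1.ne_zero⟩
      left_inv := fun p => by
        refine Subtype.ext (Prod.ext ?_ ?_)
        · simp only [smul_smul, ← Units.val_mul, mul_inv_cancel, Units.val_one, one_smul]
        · simp only [smul_smul, ← mul_pow, ← Units.val_mul, inv_mul_cancel, Units.val_one, one_pow, one_smul]
      right_inv := fun x => by
        have hc : R ((x.1 : F) • x.2.1.1, ((x.1⁻¹ : Fˣ) : F) ^ k • x.2.1.2) = x.1 := by
          rw [hR, hsc, x.2.2, mul_one]
        have hu : ∀ h, Units.mk0 (R ((x.1 : F) • x.2.1.1, ((x.1⁻¹ : Fˣ) : F) ^ k • x.2.1.2)) h = x.1 :=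
          fun _ => Units.ext hc
        refine Prod.ext (Units.ext hc) (Subtype.ext (Prod.ext ?_ ?_))
        · dsimp only
          rw [hu, smul_smul, ← Units.val_mul, inv_mul_cancel, Units.val_one, one_smul]
        · dsimp only
          rw [hu, smul_smul, ← mul_pow, ← Units.val_mul, mul_inv_cancel, Units.val_one, one_pow, one_smul] }
  change Nat.card {p // R p ≠ 0} = _ * Nat.card {p // R p = 1}
  rw [Nat.card_congr e, Nat.card_prod, Nat.card_eq_fintype_card (α := Fˣ), Fintype.card_units]

end Groth.Agent.ResCount28
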